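import Groth.Agent.CharHomRel.Basic
import Mathlib

/-!
# Completions are formally smooth relative to a base over which the ring is of finite type
-/

set_option autoImplicit false
universe u

open TensorProduct KaehlerDifferential

namespace Groth.Agent.CompletionRelFS

variable {R A : Type u} [CommRing R] [CommRing A] [Algebra R A] (J : Ideal A)

lemma D_mem (n : ℕ) (x : A) (hx : x ∈ J ^ (n + 1)) :
    D R A x ∈ (J ^ n • ⊤ : Submodule A Ω[A⁄R]) := by
  induction n generalizing x with
  | zero => simp
  | succ n ih =>
    rw [pow_succ] at hx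
    refine Submodule.mul_induction_on hx (fun a ha b hb => ?_) (fun a b ha hb => ?_)
    · rw [Derivation.leibniz]
      refine add_mem (Submodule.smul_mem_smul ha Submodule.mem_top) ?_
      have := Submodule.smul_mem_smul hb (ih a ha)
      rwa [← mul_smul, ← pow_succ'] at this
    · rw [map_add]
      exact add_mem ha hb

lemma mk_D_eq (n : ℕ) {a b : A}
    (h : Submodule.Quotient.mk (p := (J ^ (n + 1) • ⊤ : Submodule A A)) a =
      Submodule.Quotient.mk b) :
    Submodule.Quotient.mk (p := (J ^ n • ⊤ : Submodule A Ω[A⁄R])) (D R A a) =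
      Submodule.Quotient.mk (D R A b) := by
  rw [Submodule.Quotient.eq, ← map_sub]
  refine D_mem J n _ ?_
  have := (Submodule.Quotient.eq _).1 h
  rwa [smul_eq_mul, Ideal.mul_top] at this

/-- A representative of the `n`-th component. -/
noncomputable def rep (x : AdicCompletion J A) (n : ℕ) : A :=
  (Submodule.Quotient.mk_surjective (J ^ n • ⊤ : Submodule A A) (x.1 n)).choose

lemma rep_spec (x : AdicCompletion J A) (n : ℕ) :
    Submodule.Quotient.mk (p := (J ^ n • ⊤ : Submodule A A)) (rep J x n) = x.1 n :=
  (Submodule.Quotient.mk_surjective (J ^ n • ⊤ : Submodule A A) (x.1 n)).choose_spec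

/-- The continuous extension of the universal derivation to the completion. -/
noncomputable def dhat (x : AdicCompletion J A) : AdicCompletion J Ω[A⁄R] :=
  ⟨fun n => Submodule.Quotient.mk (D R A (rep J x (n + 1))), fun {m n} hmn => by
    refine mk_D_eq J m ?_
    rw [rep_spec, ← x.2 (Nat.succ_le_succ hmn), ← rep_spec J x (n + 1)]
    rfl⟩

lemma dhat_val (x : AdicCompletion J A) (n : ℕ) (a : A)
    (ha : Submodule.Quotient.mk a = x.1 (n + 1)) :
    (dhat (R := R) J x).1 n = Submodule.Quotient.mk (D R A a) :=
  mk_D_eq J n ((rep_spec J x (n + 1)).trans ha.symm)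

lemma dhat_of (a : A) :
    dhat (R := R) J (AdicCompletion.of J A a) = AdicCompletion.of J Ω[A⁄R] (D R A a) :=
  AdicCompletion.ext fun n => dhat_val J _ n a rfl

lemma rep_smul (x : AdicCompletion J A) (n : ℕ) (ω : Ω[A⁄R]) :
    x.1 n • (Submodule.Quotient.mk ω : Ω[A⁄R] ⧸ (J ^ n • ⊤ : Submodule A Ω[A⁄R])) =
      Submodule.Quotient.mk (rep J x (n + 1) • ω) := by
  rw [← x.2 (Nat.le_succ n), ← rep_spec J x (n + 1)]
  rfl

instance : IsScalarTower R (AdicCompletion J A) (AdicCompletion J Ω[A⁄R]) :=
  ⟨fun s r x => by
    rw [← IsScalarTower.algebraMap_smul A s r, smul_assoc, IsScalarTower.algebraMap_smul]⟩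

/-- The derivation of the completion. -/
noncomputable def dhatDer : Derivation R (AdicCompletion J A) (AdicCompletion J Ω[A⁄R]) :=
  Derivation.mk'
    { toFun := dhat J
      map_add' := fun x y => AdicCompletion.ext fun n => by
        rw [AdicCompletion.val_add_apply, dhat_val J x n _ (rep_spec J x _),
          dhat_val J y n _ (rep_spec J y _),
          dhat_val J (x + y) n (rep J x (n + 1) + rep J y (n + 1)) (by
            rw [Submodule.Quotient.mk_add, rep_spec, rep_spec]; rfl),
          map_add, Submodule.Quotient.mk_add]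
      map_smul' := fun s x => AdicCompletion.ext fun n => by
        rw [RingHom.id_apply, AdicCompletion.val_smul_apply, dhat_val J x n _ (rep_spec J x _),
          dhat_val J (s • x) n (s • rep J x (n + 1)) (by
            rw [Submodule.Quotient.mk_smul, rep_spec]; rfl),
          (D R A).map_smul, Submodule.Quotient.mk_smul] }
    fun x y => AdicCompletion.ext fun n => by
      change (dhat J (x * y)).1 n =
        x.1 n • (dhat J y).1 n + y.1 n • (dhat J x).1 n
      rw [dhat_val J x n _ (rep_spec J x _), dhat_val J y n _ (rep_spec J y _),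
        dhat_val J (x * y) n (rep J x (n + 1) * rep J y (n + 1)) (by
          rw [AdicCompletion.val_mul, ← rep_spec J x (n + 1), ← rep_spec J y (n + 1)]; rfl),
        Derivation.leibniz, rep_smul, rep_smul, Submodule.Quotient.mk_add]

theorem exists_leftInverse [IsNoetherianRing A] [Module.Finite A Ω[A⁄R]] :
    ∃ l : Ω[AdicCompletion J A⁄R] →ₗ[AdicCompletion J A] AdicCompletion J A ⊗[A] Ω[A⁄R],
      l ∘ₗ mapBaseChange R A (AdicCompletion J A) = LinearMap.id := by
  refine ⟨(AdicCompletion.ofTensorProductEquivOfFiniteNoetherian J Ω[A⁄R]).symm.toLinearMap.comp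
    (dhatDer J).liftKaehlerDifferential, CharHomEquiv.ext_tmul_D fun a => ?_⟩
  rw [LinearMap.comp_apply, LinearMap.comp_apply, mapBaseChange_tmul, map_D, one_smul,
    Derivation.liftKaehlerDifferential_comp_D, LinearMap.id_apply]
  change (AdicCompletion.ofTensorProductEquivOfFiniteNoetherian J Ω[A⁄R]).symm
    (dhat J (AdicCompletion.of J A a)) = _
  rw [dhat_of, AdicCompletion.ofTensorProductEquivOfFiniteNoetherian_symm_of]

theorem isFormallySmoothRel_completion [IsNoetherianRing R] [Module.Finite R A] :
    EGA41.IsFormallySmoothRel R A (AdicCompletion J A) := by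
  have : IsNoetherianRing A := IsNoetherianRing.of_finite R A
  exact CharHomRel.exists_leftInverse_iff.1 (exists_leftInverse J)

end Groth.Agent.CompletionRelFS
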